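import Cfsg.Agent.H70.SplitExt

/-!
Prime graph of the large split extensions `V^k ⋊ S` when elements of `S` may fix vectors of `V`.
-/

set_option autoImplicit false

namespace Cfsg.Agent.H69.Graph

open Cfsg.Agent.H70

/-- `s` is the characteristic of the module and some element of order `r` fixes a nonzero vector. -/
def FixEdge (S V : Type*) [Group S] [AddCommGroup V] [DistribMulAction S V] (p r s : ℕ) : Prop :=
  s = p ∧ ∃ (t : S) (v : V), orderOf t = r ∧ v ≠ 0 ∧ t • v = v

theorem exists_large_module {S V : Type*} [Group S] [Finite S] [AddCommGroup V] [Finite V]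
    [Nontrivial V] [DistribMulAction S V] (p : ℕ) (hp : p.Prime) (hV : ∀ v : V, p • v = 0)
    (hpS : p ∣ Nat.card S) (N : ℕ) :
    ∃ (H : Type) (_ : Group H) (_ : Finite H), N < Nat.card H ∧
      (∀ r : ℕ, r.Prime → (r ∣ Nat.card H ↔ r ∣ Nat.card S)) ∧
      ∀ r s : ℕ, r.Prime → s.Prime → r ≠ s → ((∃ h : H, orderOf h = r * s) ↔
        (∃ g : S, orderOf g = r * s) ∨ FixEdge S V p r s ∨ FixEdge S V p s r) := by
  classical
  let W := Multiplicative (Fin (N + 1) → V)
  let φ : S →* MulAut W :=
    MonoidHom.mk' (fun s => AddEquiv.toMultiplicative (DistribMulAction.toAddEquiv _ s))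
      (fun s s' => MulEquiv.ext fun w => congrArg Multiplicative.ofAdd (mul_smul s s' w.toAdd))
  let X := W ⋊[φ] S
  have hX : Nat.card X = Nat.card W * Nat.card S := SemidirectProduct.card
  have : Finite X := Finite.of_equiv _ SemidirectProduct.equivProd.symm
  have hWp : ∀ w : W, w ^ p = 1 := fun w => by
    apply Multiplicative.toAdd.injective
    funext i
    show (p • w.toAdd) i = 0
    exact hV (w.toAdd i)
  have hker : ∀ z : X, SemidirectProduct.rightHom z = 1 →
      ∃ w : W, SemidirectProduct.inl (φ := φ) w = z := by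
    intro z hz
    have hz1 : z ∈ (SemidirectProduct.inl (φ := φ)).range := by
      rw [SemidirectProduct.range_inl_eq_ker_rightHom]; exact hz
    exact hz1
  have hcard : ∀ r : ℕ, r.Prime → (r ∣ Nat.card X ↔ r ∣ Nat.card S) := by
    refine fun r hr => ⟨fun h => ?_, fun h => hX ▸ dvd_mul_of_dvd_right h _⟩
    rcases (hr.dvd_mul).mp (hX ▸ h) with h' | h'
    · have := Fact.mk hr
      obtain ⟨w, hw⟩ := exists_prime_orderOf_dvd_card' r h'
      have := hw ▸ orderOf_dvd_of_pow_eq_one (hWp w)
      rwa [(Nat.prime_dvd_prime_iff_eq hr hp).mp this]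
    · exact h'
  have fwd : ∀ (r s : ℕ) (h : X), r.Prime → s.Prime → r ≠ s → orderOf h = r * s →
      orderOf (SemidirectProduct.rightHom h) ∣ r → FixEdge S V p r s := by
    intro r s h hr hs hne hh hdvd
    set t := SemidirectProduct.rightHom h
    have hk : SemidirectProduct.rightHom (h ^ r) = 1 := by
      rw [map_pow]; exact orderOf_dvd_iff_pow_eq_one.mp hdvd
    have ho : orderOf (h ^ r) = s := by
      rw [orderOf_pow_of_dvd hr.ne_zero (hh ▸ dvd_mul_right r s), hh, Nat.mul_div_cancel_left _ hr.pos]
    obtain ⟨w, hw⟩ := hker _ hk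
    have hsp : s = p := (Nat.prime_dvd_prime_iff_eq hs hp).mp
      (ho ▸ orderOf_dvd_of_pow_eq_one (by rw [← hw, ← map_pow, hWp, map_one]))
    have ht : orderOf t = r := by
      refine ((Nat.dvd_prime hr).mp hdvd).resolve_left fun h1 => ?_
      obtain ⟨w', hw'⟩ := hker h (orderOf_eq_one_iff.mp h1)
      have hd : orderOf h ∣ p := orderOf_dvd_of_pow_eq_one (by rw [← hw', ← map_pow, hWp, map_one])
      rw [hh] at hd
      exact hne (((Nat.prime_dvd_prime_iff_eq hr hp).mp ((dvd_mul_right r s).trans hd)).trans hsp.symm)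
    have hw1 : w ≠ 1 := fun e => hs.ne_one (by rw [← ho, ← hw, e, map_one, orderOf_one])
    have hcomm : h * SemidirectProduct.inl w = SemidirectProduct.inl w * h := by
      rw [hw]; exact (Commute.self_pow h r).eq
    have hfixw : φ t w = w := by
      have e := congrArg SemidirectProduct.left hcomm
      have e' : h.left * φ h.right w = w * h.left := by
        rw [SemidirectProduct.mul_left, SemidirectProduct.mul_left, SemidirectProduct.left_inl,
          SemidirectProduct.right_inl, map_one] at e
        exact e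
      rw [mul_comm w] at e'
      exact mul_left_cancel e'
    obtain ⟨i, hi⟩ : ∃ i, w.toAdd i ≠ 0 := by
      by_contra hall
      push Not at hall
      exact hw1 (Multiplicative.toAdd.injective (funext hall))
    exact ⟨hsp, t, w.toAdd i, ht, hi, congrFun (congrArg Multiplicative.toAdd hfixw) i⟩
  have bwd : ∀ r s : ℕ, r.Prime → s.Prime → r ≠ s → FixEdge S V p r s →
      ∃ h : X, orderOf h = r * s := by
    rintro r s hr hs hne ⟨rfl, t, v, ht, hv, htv⟩
    have := Fact.mk hs
    set w : W := Multiplicative.ofAdd (fun _ => v)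
    have hfix : φ t w = w := congrArg Multiplicative.ofAdd (funext fun _ => htv)
    have hc : Commute (SemidirectProduct.inr t : X) (SemidirectProduct.inl w) := by
      rw [commute_iff_eq]
      ext <;> simp [hfix]
    refine ⟨SemidirectProduct.inr t * SemidirectProduct.inl w, ?_⟩
    have h1 : orderOf (SemidirectProduct.inr t : X) = r := by
      rw [orderOf_injective _ SemidirectProduct.inr_injective, ht]
    have h2 : orderOf (SemidirectProduct.inl w : X) = s := by
      rw [orderOf_injective _ SemidirectProduct.inl_injective]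
      exact orderOf_eq_prime (hWp w)
        fun e => hv (congrFun (congrArg Multiplicative.toAdd e) (0 : Fin (N + 1)))
    rw [hc.orderOf_mul_eq_mul_orderOf_of_coprime (by rw [h1, h2]; exact (Nat.coprime_primes hr hs).2 hne),
      h1, h2]
  have hadj : ∀ r s : ℕ, r.Prime → s.Prime → r ≠ s → ((∃ h : X, orderOf h = r * s) ↔
      (∃ g : S, orderOf g = r * s) ∨ FixEdge S V p r s ∨ FixEdge S V p s r) := by
    refine fun r s hr hs hne => ⟨?_, ?_⟩
    · rintro ⟨h, hh⟩
      have hdvd : orderOf (SemidirectProduct.rightHom h) ∣ r * s := hh ▸ orderOf_map_dvd _ h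
      rcases (Nat.dvd_mul).mp hdvd with ⟨a, b, ha, hb, hab⟩
      rcases (Nat.dvd_prime hr).mp ha with rfl | rfl
      · exact Or.inr (Or.inr (fwd s r h hs hr hne.symm (hh.trans (Nat.mul_comm _ _))
          (by rw [← hab, one_mul]; exact hb)))
      · rcases (Nat.dvd_prime hs).mp hb with rfl | rfl
        · exact Or.inr (Or.inl (fwd a s h hr hs hne hh (by rw [← hab, mul_one])))
        · exact Or.inl ⟨_, hab.symm⟩
    · rintro (⟨g, hg⟩ | h | h)
      · exact ⟨SemidirectProduct.inr g, by rw [orderOf_injective _ SemidirectProduct.inr_injective, hg]⟩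
      · exact bwd r s hr hs hne h
      · rw [Nat.mul_comm]; exact bwd s r hs hr hne.symm h
  obtain ⟨H, hG, hF, ⟨e⟩⟩ := exists_type0 X
  letI := hG
  refine ⟨H, hG, hF, ?_, fun r hr => by rw [Nat.card_congr e.toEquiv]; exact hcard r hr,
    fun r s hr hs hne => ?_⟩
  · rw [Nat.card_congr e.toEquiv, hX]
    have h1 : N < Nat.card W := by
      show N < Nat.card (Fin (N + 1) → V)
      rw [Nat.card_pi, Finset.prod_const, Finset.card_univ, Fintype.card_fin]
      calc N < 2 ^ (N + 1) := (Nat.lt_succ_self N).trans (Nat.lt_two_pow_self)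
        _ ≤ Nat.card V ^ (N + 1) := Nat.pow_le_pow_left Finite.one_lt_card _
    exact lt_of_lt_of_le h1 (Nat.le_mul_of_pos_right _ Nat.card_pos)
  · exact ((SameGraph.of_mulEquiv e).2 r s hr hs hne).trans (hadj r s hr hs hne)

end Cfsg.Agent.H69.Graph
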