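import Cfsg.Agent.H69.Graph.Roots
import Cfsg.Agent.Suzuki.Aut
import Cfsg.Agent.Suzuki.FixedVector

/-!
The group `Sz(8) : 3` acting on `4 × 4` matrices by `M ↦ A M^φ (A^σ)ᵀ`.
-/

set_option autoImplicit false
set_option linter.unusedSectionVars false
set_option maxHeartbeats 1000000

namespace Cfsg.Agent.H69.Graph

open Cfsg MulAction Polynomial Matrix Cfsg.Agent.Suzuki

variable (K : Type*) [Field K] [Fintype K] [SzField K 1]

/-- `Sz(8) ⋊ Aut(F₈)`. -/
abbrev SzExt := SemidirectProduct (Cfsg.Sz K 1) (K ≃+* K) (fieldAut 1)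

variable {K}

/-- The action on matrices. -/
def act (g : SzExt K) (M : Matrix (Fin 4) (Fin 4) K) : Matrix (Fin 4) (Fin 4) K :=
  toMat 1 g.left * M.map g.right * ((toMat 1 g.left).map (thHom 1))ᵀ

theorem toMat_fieldAut (φ : K ≃+* K) (g : Cfsg.Sz K 1) :
    toMat 1 (fieldAut 1 φ g) = (toMat 1 g).map φ := rfl

theorem th_comm (φ : K ≃+* K) (x : K) : φ (th 1 x) = th 1 (φ x) := by
  rw [th_def, th_def, map_pow]

theorem act_mul (g h : SzExt K) (M : Matrix (Fin 4) (Fin 4) K) :
    act (g * h) M = act g (act h M) := by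
  simp only [act, SemidirectProduct.mul_left, SemidirectProduct.mul_right, map_mul, toMat_fieldAut]
  rw [Matrix.map_mul, Matrix.map_mul, Matrix.map_mul, Matrix.transpose_mul]
  have h1 : M.map (g.right * h.right : K ≃+* K) = (M.map h.right).map g.right := by
    ext i j; rfl
  have h2 : ((toMat 1 h.left).map g.right).map (thHom 1) =
      ((toMat 1 h.left).map (thHom 1)).map g.right := by
    ext i j
    simp [Matrix.map_apply, th_comm]
  rw [h1, h2, Matrix.transpose_map]
  simp only [Matrix.mul_assoc]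

noncomputable instance : DistribMulAction (SzExt K) (Matrix (Fin 4) (Fin 4) K) where
  smul := act
  one_smul M := by
    show act 1 M = M
    simp only [act, SemidirectProduct.one_left, SemidirectProduct.one_right, map_one]
    rw [Matrix.map_one _ (map_zero _) (map_one _), Matrix.transpose_one, one_mul, mul_one]
    ext i j; rfl
  mul_smul := act_mul
  smul_zero g := by
    show act g 0 = 0
    simp [act]
  smul_add g M N := by
    show act g (M + N) = act g M + act g N
    simp only [act]
    rw [Matrix.map_add _ (map_add _), Matrix.mul_add, Matrix.add_mul]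

theorem smul_def (g : SzExt K) (M : Matrix (Fin 4) (Fin 4) K) : g • M = act g M := rfl

theorem smul_inl (A : Cfsg.Sz K 1) (M : Matrix (Fin 4) (Fin 4) K) :
    (SemidirectProduct.inl A : SzExt K) • M = toMat 1 A * M * ((toMat 1 A).map (thHom 1))ᵀ := by
  simp only [smul_def, act, SemidirectProduct.left_inl, SemidirectProduct.right_inl]
  rw [show M.map (1 : K ≃+* K) = M from by ext i j; rfl]

theorem two_smul_mat (M : Matrix (Fin 4) (Fin 4) K) : 2 • M = 0 := by
  ext i j
  rw [two_nsmul, Matrix.add_apply, Matrix.zero_apply, Suzuki.add_self (F := K) 1]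

theorem card_K : Nat.card K = 8 := card_nat (F := K) 1

theorem pow_eight (x : K) : x ^ 8 = x := by
  rw [← card_K (K := K), Nat.card_eq_fintype_card, FiniteField.pow_card]

theorem card_Sz8 : Nat.card (Cfsg.Sz K 1) = 29120 := by
  rw [card_Sz, card_K]
  norm_num

theorem card_aut : Nat.card (K ≃+* K) = 3 := card_ringAut 1

instance : Finite (K ≃+* K) := Finite.of_injective _ DFunLike.coe_injective

theorem card_SzExt : Nat.card (SzExt K) = 87360 := by
  rw [SemidirectProduct.card, card_Sz8, card_aut]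

/-- Element orders of `Sz(8)`. -/
theorem orderOf_Sz (g : Cfsg.Sz K 1) :
    orderOf g ∣ 64 ∨ orderOf g ∣ 7 ∧ (∃ k, k * g * k⁻¹ ∈ T 1) ∨ orderOf g ∣ 13 ∨ orderOf g ∣ 5 := by
  by_cases hf : FixFree 1 g
  · have hm : g ∈ Subgroup.centralizer {g} := Subgroup.mem_centralizer_singleton_iff.mpr rfl
    have h := Subgroup.orderOf_dvd_natCard _ hm
    rcases ((torus_classes (F := K) 1).1 g hf).1 with e | e <;> rw [e] at h
    · exact Or.inr (Or.inr (Or.inl h))
    · exact Or.inr (Or.inr (Or.inr h))
  · rcases exists_conj_U_or_T 1 hf with ⟨k, hk⟩ | ⟨k, hk⟩ <;>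
      have h := Subgroup.orderOf_dvd_natCard _ hk <;>
      rw [← MulAut.conj_apply, (MulAut.conj k).orderOf_eq] at h
    · rw [card_U, card_K] at h; exact Or.inl h
    · rw [card_T, card_K] at h; exact Or.inr (Or.inl ⟨h, k, hk⟩)

theorem toMat_pow_eq_one {A : Cfsg.Sz K 1} {r : ℕ} (hA : orderOf A = r) : toMat 1 A ^ r = 1 := by
  rw [← map_pow, ← hA, pow_orderOf_eq_one, map_one]

/-- A root of the characteristic polynomial of an element of odd prime order has the same order. -/
theorem orderOf_root {A : Cfsg.Sz K 1} {r : ℕ} (hr : r.Prime) (hr2 : r ≠ 2) (hA : orderOf A = r)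
    {L : Type*} [Field L] [Algebra K L] {z : L} (hz : aeval z (toMat 1 A).charpoly = 0) :
    orderOf z = r := by
  have := Fact.mk hr
  refine orderOf_eq_prime (root_pow_eq_one (toMat_pow_eq_one hA) hz) ?_
  rintro rfl
  rw [← map_one (algebraMap K L), aeval_algebraMap_apply, map_eq_zero, aeval_def,
    Algebra.algebraMap_self, eval₂_id, Matrix.eval_charpoly, ← Matrix.exists_mulVec_eq_zero_iff] at hz
  obtain ⟨v, hv, hv0⟩ := hz
  rw [map_one, Matrix.sub_mulVec, Matrix.one_mulVec, sub_eq_zero] at hv0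
  have h := orderOf_dvd_of_fixed_vector 1 hv hv0.symm
  rw [hA] at h
  exact hr2 ((Nat.prime_dvd_prime_iff_eq hr Nat.prime_two).1 (hr.dvd_of_dvd_pow h))

theorem roots_closed_eight (A : Cfsg.Sz K 1) {L : Type*} [Field L] [Algebra K L] [CharP L 2] {z : L}
    (hz : aeval z (toMat 1 A).charpoly = 0) : aeval (z ^ 8) (toMat 1 A).charpoly = 0 := by
  have := charTwo (F := K) 1
  have h := aeval_pow_frob 3 z (toMat 1 A).charpoly
  rw [map_frob_of_fixed (K := K) 3 (fun i => pow_eight _), hz, zero_pow (by norm_num)] at h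
  exact h

theorem five_roots_absurd {r : ℕ} {L : Type*} [Field L] [Algebra K L] {z : L} (hz : orderOf z = r)
    (A : Matrix (Fin 4) (Fin 4) K) (E : Finset ℕ) (hE : ∀ e ∈ E, e < r) (hcard : 5 ≤ E.card)
    (h : ∀ e ∈ E, aeval (z ^ e) A.charpoly = 0) : False := by
  classical
  have hne : A.charpoly.map (algebraMap K L) ≠ 0 := ((A.charpoly_monic).map _).ne_zero
  have hsub : E.image (z ^ ·) ⊆ (A.charpoly.map (algebraMap K L)).roots.toFinset := by
    intro x hx
    obtain ⟨e, he, rfl⟩ := Finset.mem_image.1 hx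
    rw [Multiset.mem_toFinset, mem_roots hne, IsRoot.def, eval_map, ← aeval_def]
    exact h e he
  have h1 := Finset.card_le_card hsub
  rw [Finset.card_image_of_injOn fun x hx y hy hxy => pow_injOn_Iio_orderOf
    (by simpa [hz] using hE x hx) (by simpa [hz] using hE y hy) hxy] at h1
  have h2 := (Multiset.toFinset_card_le _).trans (card_roots' (A.charpoly.map (algebraMap K L)))
  rw [A.charpoly_monic.natDegree_map, Matrix.charpoly_natDegree_eq_dim, Fintype.card_fin] at h2
  omega

theorem suzukiForm_sq : suzukiForm K * suzukiForm K = 1 := by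
  ext i j
  fin_cases i <;> fin_cases j <;> simp [suzukiForm, Matrix.mul_apply, Fin.sum_univ_four]

/-- Elements of order `13` fix no nonzero vector. -/
theorem thirteen_fpf {A : Cfsg.Sz K 1} (hA : orderOf A = 13) (M : Matrix (Fin 4) (Fin 4) K)
    (hM : (SemidirectProduct.inl A : SzExt K) • M = M) : M = 0 := by
  by_contra hM0
  rw [smul_inl] at hM
  set a := toMat 1 A with ha
  set S := a.map (thHom 1) with hS
  have hJ : (suzukiForm K).map (thHom 1) = suzukiForm K := by
    ext i j; fin_cases i <;> fin_cases j <;> simp [suzukiForm]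
  have hform : Sᵀ * suzukiForm K * S = suzukiForm K := by
    have h := congrArg (fun X : Matrix (Fin 4) (Fin 4) K => X.map (thHom 1))
      (preserves_form 1 A.2)
    simp only [Matrix.map_mul, hJ] at h
    rw [Matrix.transpose_map] at h
    exact h
  have hinter : a * (M * suzukiForm K) = (M * suzukiForm K) * S := by
    conv_rhs => rw [← hM]
    calc a * (M * suzukiForm K) = a * M * (Sᵀ * suzukiForm K * S) := by rw [hform, Matrix.mul_assoc]
      _ = _ := by simp only [Matrix.mul_assoc]
  have hne : M * suzukiForm K ≠ 0 := fun h => hM0 (by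
    simpa [Matrix.mul_assoc, suzukiForm_sq] using congrArg (· * suzukiForm K) h)
  have hnc := not_coprime_of_intertwine hinter hne
  let L := AlgebraicClosure K
  rw [Polynomial.isCoprime_iff_aeval_ne_zero_of_isAlgClosed _ L] at hnc
  push Not at hnc
  obtain ⟨s, hs1, hs2⟩ := hnc
  have := charTwo (F := K) 1
  have : CharP L 2 := charP_of_injective_algebraMap (algebraMap K L).injective 2
  obtain ⟨z, rfl⟩ := IsAlgClosed.exists_pow_nat_eq s (n := 4) (by norm_num)
  rw [hS, Matrix.charpoly_map] at hs2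
  have hth : thHom (F := K) 1 = iterateFrobenius K 2 2 := by
    ext x; simp [iterateFrobenius_def, th_def]
  rw [hth] at hs2
  have hf := aeval_pow_frob 2 z a.charpoly
  rw [show (2 : ℕ) ^ 2 = 4 by norm_num, hs2] at hf
  have hz : aeval z a.charpoly = 0 := pow_eq_zero_iff (by norm_num : (4 : ℕ) ≠ 0) |>.1 hf.symm
  have ho := orderOf_root (by norm_num) (by norm_num) hA hz
  have h8 := roots_closed_eight A hz
  have h64 := roots_closed_eight A h8
  have h512 := roots_closed_eight A h64
  rw [← pow_mul] at h64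
  rw [← pow_mul, ← pow_mul] at h512
  rw [← pow_mod_orderOf, ho] at h64 h512
  refine five_roots_absurd ho a {1, 8, 12, 5, 4} (by decide) (by decide) ?_
  intro e he
  simp only [Finset.mem_insert, Finset.mem_singleton] at he
  rcases he with rfl | rfl | rfl | rfl | rfl
  · rw [pow_one]; exact hz
  · exact h8
  · exact h64
  · exact h512
  · exact hs1

theorem frob_fixed_of_fixed {ψ : K ≃+* K} (hψ : ψ ≠ 1) {c : K} (hc : ψ c = c) : c ^ 2 = c := by
  have := charTwo (F := K) 1
  have : Fact (Nat.Prime 3) := ⟨Nat.prime_three⟩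
  have hmem : frobeniusEquiv K 2 ∈ Subgroup.zpowers ψ := by
    rw [zpowers_eq_top_of_prime_card card_aut hψ]; exact Subgroup.mem_top _
  have hst : Subgroup.zpowers ψ ≤ MulAction.stabilizer (K ≃+* K) c :=
    Subgroup.zpowers_le.2 hc
  exact hst hmem

/-- An element of order `3r`, `r ∈ {7, 13}`, does not exist. -/
theorem no_three_mul {r : ℕ} (hr : r = 7 ∨ r = 13) (x : SzExt K) : orderOf x ≠ 3 * r := by
  intro hx
  have hy : orderOf (x ^ 3) = r := by
    rw [orderOf_pow_of_dvd (by norm_num) (hx ▸ dvd_mul_right 3 r), hx]; omega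
  have h3 : ∀ ψ : K ≃+* K, ψ ^ 3 = 1 := fun ψ => by
    rw [← card_aut (K := K)]; exact pow_card_eq_one'
  obtain ⟨A, hA⟩ : x ^ 3 ∈ (SemidirectProduct.inl (φ := fieldAut (F := K) 1)).range := by
    rw [SemidirectProduct.range_inl_eq_ker_rightHom, MonoidHom.mem_ker, map_pow]; exact h3 _
  have hψ : x.right ≠ 1 := by
    intro h
    obtain ⟨B, hB⟩ : x ∈ (SemidirectProduct.inl (φ := fieldAut (F := K) 1)).range := by
      rw [SemidirectProduct.range_inl_eq_ker_rightHom]; exact h
    have h1 : orderOf B = 3 * r := by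
      rw [← hx, ← hB, orderOf_injective _ SemidirectProduct.inl_injective]
    exact three_not_dvd_card (F := K) 1 ((h1 ▸ dvd_mul_right 3 r).trans (orderOf_dvd_natCard B))
  have hAo : orderOf A = r := by
    rw [← hy, ← hA, orderOf_injective _ SemidirectProduct.inl_injective]
  set B := x.left
  set ψ := x.right
  have hcomm : B * fieldAut 1 ψ A = A * B := by
    have h := congrArg SemidirectProduct.left (hA ▸ (Commute.self_pow x 3).eq)
    simpa using h
  have hch : (toMat 1 A).charpoly.map (ψ : K →+* K) = (toMat 1 A).charpoly := by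
    rw [← Matrix.charpoly_map]
    show ((toMat 1 A).map ψ).charpoly = _
    rw [← toMat_fieldAut, show fieldAut 1 ψ A = B⁻¹ * A * B by rw [mul_assoc, ← hcomm, inv_mul_cancel_left]]
    simpa using charpoly_hom_conj (toMat 1) B⁻¹ A
  have := charTwo (F := K) 1
  have hfix : (toMat 1 A).charpoly.map (iterateFrobenius K 2 1) = (toMat 1 A).charpoly :=
    map_frob_of_fixed 1 fun i => by
      rw [pow_one]
      refine frob_fixed_of_fixed hψ ?_
      conv_rhs => rw [← hch]
      rw [coeff_map]; rfl
  rcases hr with rfl | rfl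
  · obtain ⟨k, hk⟩ : ∃ k, k * A * k⁻¹ ∈ T 1 := by
      rcases orderOf_Sz A with h | ⟨-, h⟩ | h | h
      · rw [hAo] at h; norm_num at h
      · exact h
      · rw [hAo] at h; norm_num at h
      · rw [hAo] at h; norm_num at h
    obtain ⟨s, hs⟩ := (mem_T 1).mp hk
    have hc : (toMat 1 A).charpoly = (tMat 1 s).charpoly := by
      rw [← charpoly_hom_conj (toMat 1) k A, hs]; rfl
    have hso : orderOf (s : K) = 7 := by
      rw [orderOf_units, ← orderOf_injective _ (t_injective (F := K) 1) s, ← hs, ← MulAut.conj_apply,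
        (MulAut.conj k).orderOf_eq, hAo]
    rw [hc, tMat, Matrix.charpoly_diagonal] at hfix
    have h := aeval_pow_frob 1 (s : K) (∏ i, (X - C (![(s : K) * th 1 (s : K), s, (s : K)⁻¹,
      ((s : K) * th 1 (s : K))⁻¹] i)))
    have h' := aeval_pow_frob 1 ((s : K) ^ 2 ^ 1) (∏ i, (X - C (![(s : K) * th 1 (s : K), s, (s : K)⁻¹,
      ((s : K) * th 1 (s : K))⁻¹] i)))
    rw [hfix] at h h'
    have h0 : aeval (s : K) (∏ i, (X - C (![(s : K) * th 1 (s : K), s, (s : K)⁻¹,
      ((s : K) * th 1 (s : K))⁻¹] i))) = 0 := by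
      rw [map_prod]
      exact Finset.prod_eq_zero (Finset.mem_univ 1) (by simp)
    rw [h, h0, zero_pow (by norm_num), zero_pow (by norm_num)] at h'
    rw [map_prod, Finset.prod_eq_zero_iff] at h'
    obtain ⟨i, -, hi⟩ := h'
    rw [map_sub, aeval_X, aeval_C, sub_eq_zero, Algebra.algebraMap_self, RingHom.id_apply,
      ← pow_mul, show 2 ^ 1 * 2 ^ 1 = 4 by norm_num] at hi
    have hk : ∀ a b : ℕ, a < 7 → b < 7 → (s : K) ^ a = (s : K) ^ b → a = b := fun a b ha hb e =>
      pow_injOn_Iio_orderOf (by simpa [hso] using ha) (by simpa [hso] using hb) e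
    have h7 : (s : K) ^ 7 = 1 := hso ▸ pow_orderOf_eq_one _
    have hinv : (s : K)⁻¹ = (s : K) ^ 6 := inv_eq_of_mul_eq_one_right (by rw [← pow_succ', h7])
    have h5 : (s : K) * th 1 (s : K) = (s : K) ^ 5 := by rw [th_def]; ring
    have hinv5 : ((s : K) ^ 5)⁻¹ = (s : K) ^ 2 := inv_eq_of_mul_eq_one_right (by rw [← pow_add, h7])
    rw [h5, hinv5, hinv] at hi
    fin_cases i <;> simp at hi
    · exact absurd (hk 4 5 (by norm_num) (by norm_num) hi) (by norm_num)
    · exact absurd (hk 4 1 (by norm_num) (by norm_num) (by rw [hi, pow_one])) (by norm_num)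
    · exact absurd (hk 4 6 (by norm_num) (by norm_num) hi) (by norm_num)
    · exact absurd (hk 4 2 (by norm_num) (by norm_num) hi) (by norm_num)
  · let L := AlgebraicClosure K
    have : CharP L 2 := charP_of_injective_algebraMap (algebraMap K L).injective 2
    obtain ⟨z, hz⟩ := IsAlgClosed.exists_aeval_eq_zero L (toMat 1 A).charpoly (by
      rw [Matrix.charpoly_degree_eq_dim]; simp)
    have ho := orderOf_root (by norm_num) (by norm_num) hAo hz
    have hsq : ∀ e : ℕ, aeval (z ^ e) (toMat 1 A).charpoly = 0 →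
        aeval (z ^ (2 * e % 13)) (toMat 1 A).charpoly = 0 := by
      intro e he
      have h := aeval_pow_frob 1 (z ^ e) (toMat 1 A).charpoly
      rw [hfix, he, zero_pow (by norm_num), ← pow_mul, ← pow_mod_orderOf, ho, mul_comm] at h
      exact h
    have e1 : aeval (z ^ 1) (toMat 1 A).charpoly = 0 := by rw [pow_one]; exact hz
    have e2 := hsq 1 e1
    have e4 := hsq 2 e2
    have e8 := hsq 4 e4
    have e3 := hsq 8 e8
    refine five_roots_absurd ho (toMat 1 A) {1, 2, 4, 8, 3} (by decide) (by decide) ?_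
    intro e he
    simp only [Finset.mem_insert, Finset.mem_singleton] at he
    rcases he with rfl | rfl | rfl | rfl | rfl <;> assumption

/-- A Galois-fixed element of order five. -/
def five : Cfsg.Sz K 1 := u 1 0 1 * w 1

theorem toMat_five [CharP K 2] : toMat 1 (five (K := K)) =
    (ZMod.castHom dvd_rfl K).mapMatrix
      !![(1 : ZMod 2), 1, 0, 1; 1, 0, 1, 0; 0, 1, 0, 0; 1, 0, 0, 0] := by
  show uMat 1 (0 : K) 1 * !![0, 0, 0, 1; 0, 0, 1, 0; 0, 1, 0, 0; 1, 0, 0, 0] = _
  ext i j
  fin_cases i <;> fin_cases j <;> simp [uMat, ovf, Matrix.mul_apply, Fin.sum_univ_four]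

theorem orderOf_five : orderOf (five (K := K)) = 5 := by
  have := charTwo (F := K) 1
  have : Fact (Nat.Prime 5) := ⟨Nat.prime_five⟩
  refine orderOf_eq_prime (toMat_injective 1 ?_) fun h => ?_
  · rw [map_pow, toMat_five, map_one, ← map_pow]
    conv_rhs => rw [← map_one (ZMod.castHom dvd_rfl K).mapMatrix]
    congr 1
    decide +kernel
  · have h' := congrArg (fun g : Cfsg.Sz K 1 => toMat 1 g 0 1) h
    simp [toMat_five] at h'

theorem five_fixed (φ : K ≃+* K) : fieldAut 1 φ five = five (K := K) := by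
  refine toMat_injective 1 ?_
  have := charTwo (F := K) 1
  rw [toMat_fieldAut, toMat_five]
  ext i j
  fin_cases i <;> fin_cases j <;> simp

/-- The fixed vector of the element of order five. -/
theorem five_fix : (SemidirectProduct.inl five : SzExt K) • suzukiForm K = suzukiForm K := by
  have h : toMat 1 (five (K := K)) * suzukiForm K * (toMat 1 five)ᵀ = suzukiForm K := by
    have h1 : (toMat 1 (five (K := K)))ᵀ * suzukiForm K * toMat 1 five = suzukiForm K :=
      preserves_form 1 (five (K := K)).2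
    have h2 : suzukiForm K * (toMat 1 five)ᵀ * suzukiForm K * toMat 1 (five (K := K)) = 1 := by
      simp only [Matrix.mul_assoc] at h1 ⊢
      rw [h1, suzukiForm_sq]
    rw [mul_eq_one_comm] at h2
    calc _ = toMat 1 (five (K := K)) * (suzukiForm K * (toMat 1 five)ᵀ * suzukiForm K) *
          suzukiForm K := by simp only [Matrix.mul_assoc, suzukiForm_sq, Matrix.mul_one]
      _ = _ := by rw [h2, Matrix.one_mul]
  have := charTwo (F := K) 1
  rw [smul_inl, show (toMat 1 (five (K := K))).map (thHom 1) = toMat 1 five from ?_, h]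
  rw [toMat_five]
  ext i j
  fin_cases i <;> fin_cases j <;> simp

theorem suzukiForm_ne : suzukiForm K ≠ 0 := fun h => by
  simpa [suzukiForm] using congrFun (congrFun h 0) 3

/-- Fixed vectors of the torus. -/
theorem seven_fix (s : Kˣ) :
    (SemidirectProduct.inl (t 1 s) : SzExt K) •
        (Matrix.single 1 0 1 : Matrix (Fin 4) (Fin 4) K) = Matrix.single 1 0 1 := by
  rw [smul_inl]
  show tMat 1 s * _ * ((tMat 1 s).map (thHom 1))ᵀ = _
  have h7 : (s : K) ^ 7 = 1 := by
    have := pow_eight (s : K)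
    rw [pow_succ', mul_eq_left₀ s.ne_zero] at this
    exact this
  rw [tMat, Matrix.diagonal_map (map_zero _), Matrix.diagonal_transpose]
  ext i j
  fin_cases i <;> fin_cases j <;>
    simp [Matrix.diagonal_mul, Matrix.mul_diagonal, th_mul, th_th] <;>
    first | rfl | (simp [th_def]; linear_combination h7)

theorem exists_seven : ∃ A : Cfsg.Sz K 1, orderOf A = 7 ∧ ∃ s, A = t 1 s := by
  obtain ⟨s, hs⟩ := IsCyclic.exists_ofOrder_eq_natCard (α := Kˣ)
  rw [Nat.card_units, card_K] at hs
  exact ⟨t 1 s, by rw [orderOf_injective _ (t_injective (F := K) 1), hs], s, rfl⟩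

theorem orderOf_involution : orderOf (u 1 (0 : K) 1) = 2 := by
  refine orderOf_eq_prime ?_ ?_
  · rw [sq, u_mul]; simp [Suzuki.add_self (F := K) 1]
  · simp [u_eq_one]

theorem exists_commute_three {r : ℕ} (hr : Nat.Coprime r 3) (A : Cfsg.Sz K 1) (hA : orderOf A = r)
    (hfix : ∀ φ : K ≃+* K, fieldAut 1 φ A = A) : ∃ g : SzExt K, orderOf g = r * 3 := by
  have : Fact (Nat.Prime 3) := ⟨Nat.prime_three⟩
  obtain ⟨φ, hφ⟩ := exists_prime_orderOf_dvd_card' 3 (G := K ≃+* K) (by rw [card_aut])
  refine ⟨SemidirectProduct.inl A * SemidirectProduct.inr φ, ?_⟩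
  have h1 : orderOf (SemidirectProduct.inl A : SzExt K) = r := by
    rw [orderOf_injective _ SemidirectProduct.inl_injective, hA]
  have h2 : orderOf (SemidirectProduct.inr φ : SzExt K) = 3 := by
    rw [orderOf_injective _ SemidirectProduct.inr_injective, hφ]
  have hc : Commute (SemidirectProduct.inl A : SzExt K) (SemidirectProduct.inr φ) := by
    rw [commute_iff_eq]; ext1 <;> simp [hfix]
  rw [hc.orderOf_mul_eq_mul_orderOf_of_coprime (by rw [h1, h2]; exact hr), h1, h2]

theorem mem_inl_of_coprime {x : SzExt K} (h : Nat.Coprime (orderOf x) 3) :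
    ∃ A : Cfsg.Sz K 1, SemidirectProduct.inl A = x ∧ orderOf A = orderOf x := by
  obtain ⟨A, hA⟩ : x ∈ (SemidirectProduct.inl (φ := fieldAut (F := K) 1)).range := by
    rw [SemidirectProduct.range_inl_eq_ker_rightHom, MonoidHom.mem_ker, ← orderOf_eq_one_iff]
    exact Nat.eq_one_of_dvd_coprimes h (orderOf_map_dvd _ x)
      (card_aut (K := K) ▸ orderOf_dvd_natCard _)
  exact ⟨A, hA, by rw [← hA, orderOf_injective _ SemidirectProduct.inl_injective]⟩

end Cfsg.Agent.H69.Graph
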