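import Cfsg.Agent.H55.SpGraphOdd
import Cfsg.Agent.Symplectic.Order
import Cfsg.Agent.H69.Graph.Module
import Cfsg.Agent.H69.Graph.Sz8

/-!
`PSp(6,3)` has the prime graph of the groups `V^k ⋊ (Sz(8) : 3)`.
-/

set_option autoImplicit false

namespace Cfsg.Agent.H69.Graph

open Cfsg Cfsg.Agent.H55

/-- The edges of the prime graph of `PSp(6,3)`, with the smaller prime first. -/
def EdgeP63 (r s : ℕ) : Prop := r = 2 ∧ (s = 3 ∨ s = 5 ∨ s = 7) ∨ r = 3 ∧ s = 5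

theorem prime_dvd_P63 {a b c : ℕ} (ha : 0 < a) (hb : 0 < b) (p : ℕ) (hp : p.Prime) :
    p ∣ 2 ^ a * 3 ^ b * (5 * 7 * 13) * 1 ^ c ↔ p ∈ ({2, 3, 5, 7, 13} : Finset ℕ) := by
  simp only [one_pow, mul_one, hp.dvd_mul, hp.dvd_iff_eq, Finset.mem_insert, Finset.mem_singleton]
  rw [show p ∣ 2 ^ a ↔ p = 2 from ⟨fun h => (Nat.prime_dvd_prime_iff_eq hp Nat.prime_two).1
      (hp.dvd_of_dvd_pow h), fun h => by rw [h]; exact dvd_pow_self 2 ha.ne'⟩,
    show p ∣ 3 ^ b ↔ p = 3 from ⟨fun h => (Nat.prime_dvd_prime_iff_eq hp Nat.prime_three).1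
      (hp.dvd_of_dvd_pow h), fun h => by rw [h]; exact dvd_pow_self 3 hb.ne'⟩,
    Nat.prime_dvd_prime_iff_eq hp (by norm_num : Nat.Prime 5),
    Nat.prime_dvd_prime_iff_eq hp (by norm_num : Nat.Prime 7),
    Nat.prime_dvd_prime_iff_eq hp (by norm_num : Nat.Prime 13)]
  tauto

/-- Two predicates agreeing on increasing pairs of the five primes agree. -/
theorem five_pairs {P : ℕ → ℕ → Prop} (hsymm : ∀ r s, P r s ↔ P s r)
    (h23 : P 2 3) (h25 : P 2 5) (h27 : P 2 7) (h35 : P 3 5)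
    (h213 : ¬ P 2 13) (h37 : ¬ P 3 7) (h313 : ¬ P 3 13) (h57 : ¬ P 5 7) (h513 : ¬ P 5 13)
    (h713 : ¬ P 7 13) {r s : ℕ} (hr : r ∈ ({2, 3, 5, 7, 13} : Finset ℕ))
    (hs : s ∈ ({2, 3, 5, 7, 13} : Finset ℕ)) (hne : r ≠ s) :
    P r s ↔ EdgeP63 r s ∨ EdgeP63 s r := by
  simp only [Finset.mem_insert, Finset.mem_singleton] at hr hs
  rcases hr with rfl | rfl | rfl | rfl | rfl <;> rcases hs with rfl | rfl | rfl | rfl | rfl <;>
    first
      | exact absurd rfl hne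
      | (simp [EdgeP63, h23, h25, h27, h35, h213, h37, h313, h57, h513, h713]; done)
      | (rw [hsymm]; simp [EdgeP63, h23, h25, h27, h35, h213, h37, h313, h57, h513, h713])

section psp

variable {F : Type*} [Field F] [Fintype F]

theorem etaOf_three : etaOf 3 5 = 2 ∧ etaOf 3 7 = 3 ∧ etaOf 3 13 = 3 := by
  have h5 : orderOf ((3 : ℕ) : ZMod 5) = 4 := (orderOf_eq_iff (by norm_num)).2 ⟨by decide, by decide⟩
  have h7 : orderOf ((3 : ℕ) : ZMod 7) = 6 := (orderOf_eq_iff (by norm_num)).2 ⟨by decide, by decide⟩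
  have h13 : orderOf ((3 : ℕ) : ZMod 13) = 3 := (orderOf_eq_iff (by norm_num)).2 ⟨by decide, by decide⟩
  simp only [etaOf, h5, h7, h13]
  decide

theorem card_psp63 (hF : Fintype.card F = 3) :
    Nat.card (Cfsg.PSp 3 F) = 2 ^ 9 * 3 ^ 9 * (5 * 7 * 13) * 1 ^ 1 := by
  rw [Cfsg.Agent.Symplectic.card_psp 3 F (by norm_num), hF]
  norm_num [Finset.prod_range_succ]

/-- Existence of an element of order `r * s`. -/
def Adj (G : Type*) [Monoid G] (r s : ℕ) : Prop := ∃ g : G, orderOf g = r * s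

theorem adj_comm (G : Type*) [Monoid G] (r s : ℕ) : Adj G r s ↔ Adj G s r := by
  rw [Adj, Adj, Nat.mul_comm]

theorem psp63_adj (hF : Fintype.card F = 3) {r s : ℕ} (hr : r ∈ ({2, 3, 5, 7, 13} : Finset ℕ))
    (hs : s ∈ ({2, 3, 5, 7, 13} : Finset ℕ)) (hne : r ≠ s) :
    Adj (Cfsg.PSp 3 F) r s ↔ EdgeP63 r s ∨ EdgeP63 s r := by
  have : Fact (Nat.Prime 3) := ⟨Nat.prime_three⟩
  have : CharP F 3 := charP_of_card_eq_prime hF
  have hq : Nat.card F = 3 := by rw [Nat.card_eq_fintype_card, hF]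
  have h2 : (2 : F) ≠ 0 := two_ne_zero_of_char 3 (by norm_num)
  have hqo : Odd (Nat.card F) := by rw [hq]; decide
  obtain ⟨e5, e7, e13⟩ := etaOf_three
  have odd : ∀ r s : ℕ, r.Prime → s.Prime → r ≠ 2 → s ≠ 2 → r ≠ 3 → s ≠ 3 → r ≠ s →
      ¬ CondA 3 3 r s → ¬ Adj (Cfsg.PSp 3 F) r s := by
    intro r s hr hs hr2 hs2 hr3 hs3 hrs hc h
    have h' := sp_adj_odd_iff (F := F) (n := 3) 3 (by norm_num) hr hs hr2 hs2 hr3 hs3 hrs
    rw [hq] at h'
    exact hc (h'.1 h)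
  have two : ∀ r : ℕ, r.Prime → r ≠ 2 → r ≠ 3 → (Adj (Cfsg.PSp 3 F) 2 r ↔ CondD 3 3 r) := by
    intro r hr hr2 hr3
    have h' := sp_adj_two_iff (F := F) (n := 3) 3 (by norm_num) h2 hqo hr hr2 hr3
    rw [hq] at h'
    exact h'
  have char : ∀ r : ℕ, r.Prime → r ≠ 2 → r ≠ 3 →
      (Adj (Cfsg.PSp 3 F) r 3 ↔ etaOf 3 r ≤ 2) := by
    intro r hr hr2 hr3
    have h' := sp_adj_char_iff (F := F) (n := 3) 3 (by norm_num) (by norm_num) hr hr2 hr3
    rw [hq] at h'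
    exact h'
  refine five_pairs (adj_comm _) ?_ ?_ ?_ ?_ ?_ ?_ ?_ ?_ ?_ ?_ hr hs hne
  · exact sp_adj_two_char (n := 3) 3 (by norm_num) (by norm_num) h2 hqo
  · exact (two 5 (by norm_num) (by norm_num) (by norm_num)).2 (Or.inl (by omega))
  · exact (two 7 (by norm_num) (by norm_num) (by norm_num)).2 (Or.inr (Or.inl (by norm_num)))
  · exact (adj_comm _ _ _).1 ((char 5 (by norm_num) (by norm_num) (by norm_num)).2 (by omega))
  · rw [two 13 (by norm_num) (by norm_num) (by norm_num)]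
    rintro (h | h | h)
    · omega
    · norm_num at h
    · norm_num at h
  · rw [adj_comm, char 7 (by norm_num) (by norm_num) (by norm_num)]; omega
  · rw [adj_comm, char 13 (by norm_num) (by norm_num) (by norm_num)]; omega
  all_goals
    refine odd _ _ (by norm_num) (by norm_num) (by norm_num) (by norm_num) (by norm_num)
      (by norm_num) (by norm_num) ?_
    rintro (h | ⟨e, he, he3, h⟩)
    · omega
    · interval_cases e <;> norm_num at h

end psp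

section witness

open Cfsg.Agent.Suzuki

variable {K : Type} [Field K] [Fintype K] [SzField K 1]

/-- Adjacency in `V^k ⋊ (Sz(8) : 3)`. -/
def AdjW (K : Type) [Field K] [Fintype K] [SzField K 1] (r s : ℕ) : Prop :=
  Adj (SzExt K) r s ∨ FixEdge (SzExt K) (Matrix (Fin 4) (Fin 4) K) 2 r s ∨
    FixEdge (SzExt K) (Matrix (Fin 4) (Fin 4) K) 2 s r

theorem adjW_comm (r s : ℕ) : AdjW K r s ↔ AdjW K s r := by
  unfold AdjW
  rw [adj_comm]
  tauto

theorem not_adjW_odd {r s : ℕ} (hr : r ≠ 2) (hs : s ≠ 2) (h : ¬ Adj (SzExt K) r s) :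
    ¬ AdjW K r s := by
  rintro (h' | ⟨e, -⟩ | ⟨e, -⟩)
  exacts [h h', hs e, hr e]

theorem no_pair {n : ℕ} (hc : Nat.Coprime n 3) (h64 : ¬ n ∣ 64) (h7 : ¬ n ∣ 7) (h13 : ¬ n ∣ 13)
    (h5 : ¬ n ∣ 5) (x : SzExt K) : orderOf x ≠ n := by
  intro hx
  obtain ⟨A, -, hA⟩ := mem_inl_of_coprime (x := x) (hx.symm ▸ hc)
  rw [← hA] at hx
  rcases orderOf_Sz A with h | ⟨h, -⟩ | h | h <;> rw [hx] at h
  exacts [h64 h, h7 h, h13 h, h5 h]

theorem witness_adj {r s : ℕ} (hr : r ∈ ({2, 3, 5, 7, 13} : Finset ℕ))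
    (hs : s ∈ ({2, 3, 5, 7, 13} : Finset ℕ)) (hne : r ≠ s) :
    AdjW K r s ↔ EdgeP63 r s ∨ EdgeP63 s r := by
  refine five_pairs (P := AdjW K) (adjW_comm) ?_ ?_ ?_ ?_ ?_ ?_ ?_ ?_ ?_ ?_ hr hs hne
  · exact Or.inl (exists_commute_three (by norm_num) _ (orderOf_involution (K := K))
      fun φ => by rw [fieldAut_u, map_zero, map_one])
  · refine Or.inr (Or.inr ⟨rfl, _, _, ?_, suzukiForm_ne, five_fix (K := K)⟩)
    rw [orderOf_injective _ SemidirectProduct.inl_injective, orderOf_five]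
  · obtain ⟨A, hA, s, rfl⟩ := exists_seven (K := K)
    refine Or.inr (Or.inr ⟨rfl, _, _, ?_, ?_, seven_fix s⟩)
    · rw [orderOf_injective _ SemidirectProduct.inl_injective, hA]
    · intro h; simpa using congrFun (congrFun h 1) 0
  · refine Or.inl ?_
    rw [adj_comm]
    exact exists_commute_three (by norm_num) five orderOf_five five_fixed
  · rintro (⟨g, hg⟩ | ⟨e, -⟩ | ⟨-, x, M, hx, hM, hfix⟩)
    · exact no_pair (by norm_num) (by norm_num) (by norm_num) (by norm_num) (by norm_num) g hg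
    · omega
    · obtain ⟨A, rfl, hA⟩ := mem_inl_of_coprime (x := x) (hx.symm ▸ (by norm_num))
      exact hM (thirteen_fpf (hA.trans hx) M hfix)
  · exact not_adjW_odd (by norm_num) (by norm_num) fun ⟨g, hg⟩ => no_three_mul (Or.inl rfl) g hg
  · exact not_adjW_odd (by norm_num) (by norm_num) fun ⟨g, hg⟩ => no_three_mul (Or.inr rfl) g hg
  all_goals
    exact not_adjW_odd (by norm_num) (by norm_num) fun ⟨g, hg⟩ =>
      no_pair (by norm_num) (by norm_num) (by norm_num) (by norm_num) (by norm_num) g hg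

end witness

theorem psp63_unbounded {F : Type*} [Field F] [Fintype F] (hF : Fintype.card F = 3) (N : ℕ) :
    ∃ (H : Type) (_ : Group H) (_ : Finite H), N < Nat.card H ∧
      ((∀ p : ℕ, p.Prime → (p ∣ Nat.card (Cfsg.PSp 3 F) ↔ p ∣ Nat.card H)) ∧
      (∀ p q : ℕ, p.Prime → q.Prime → p ≠ q →
        ((∃ g : (Cfsg.PSp 3 F), orderOf g = p * q) ↔ (∃ g : H, orderOf g = p * q)))) := by
  have : Fact (Nat.Prime 2) := ⟨Nat.prime_two⟩
  let K := GaloisField 2 3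
  letI : Fintype K := Fintype.ofFinite K
  have : Cfsg.Agent.Suzuki.SzField K 1 :=
    ⟨by rw [← Nat.card_eq_fintype_card, GaloisField.card 2 3 (by norm_num)], le_rfl⟩
  have : Finite (SzExt K) := Finite.of_equiv _ SemidirectProduct.equivProd.symm
  obtain ⟨H, hG, hfin, hN, hdvd, hadj⟩ := exists_large_module (S := SzExt K)
    (V := Matrix (Fin 4) (Fin 4) K) 2 Nat.prime_two two_smul_mat
    (by rw [card_SzExt]; norm_num) N
  have hv : ∀ p : ℕ, p.Prime →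
      (p ∣ Nat.card H ↔ p ∈ ({2, 3, 5, 7, 13} : Finset ℕ)) := fun p hp => by
    rw [hdvd p hp, card_SzExt, show 87360 = 2 ^ 6 * 3 ^ 1 * (5 * 7 * 13) * 1 ^ 1 by norm_num]
    exact prime_dvd_P63 (by norm_num) (by norm_num) p hp
  have hv' : ∀ p : ℕ, p.Prime →
      (p ∣ Nat.card (Cfsg.PSp 3 F) ↔ p ∈ ({2, 3, 5, 7, 13} : Finset ℕ)) := fun p hp => by
    rw [card_psp63 hF]; exact prime_dvd_P63 (by norm_num) (by norm_num) p hp
  refine ⟨H, hG, hfin, hN, fun p hp => (hv' p hp).trans (hv p hp).symm, fun p q hp hq hne => ?_⟩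
  by_cases hin : p ∈ ({2, 3, 5, 7, 13} : Finset ℕ) ∧ q ∈ ({2, 3, 5, 7, 13} : Finset ℕ)
  · rw [hadj p q hp hq hne]
    exact (psp63_adj hF hin.1 hin.2 hne).trans (witness_adj hin.1 hin.2 hne).symm
  · constructor <;> rintro ⟨g, hg⟩ <;> refine absurd ⟨?_, ?_⟩ hin
    · exact (hv' p hp).1 ((hg ▸ dvd_mul_right p q).trans (orderOf_dvd_natCard g))
    · exact (hv' q hq).1 ((hg ▸ dvd_mul_left q p).trans (orderOf_dvd_natCard g))
    · exact (hv p hp).1 ((hg ▸ dvd_mul_right p q).trans (orderOf_dvd_natCard g))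
    · exact (hv q hq).1 ((hg ▸ dvd_mul_left q p).trans (orderOf_dvd_natCard g))

end Cfsg.Agent.H69.Graph
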