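import Mathlib

/-!
Roots of characteristic polynomials and Frobenius powers.
-/

set_option autoImplicit false

namespace Cfsg.Agent.H69.Graph

open Polynomial Matrix

variable {K L : Type*} [Field K] [Field L] [Algebra K L]

theorem aeval_pow_frob [CharP K 2] [CharP L 2] (k : ℕ) (z : L) (P : K[X]) :
    aeval (z ^ 2 ^ k) (P.map (iterateFrobenius K 2 k)) = aeval z P ^ 2 ^ k := by
  induction P using Polynomial.induction_on' with
  | add p q hp hq => rw [Polynomial.map_add, map_add, map_add, hp, hq, add_pow_char_pow]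
  | monomial n a =>
    rw [map_monomial, aeval_monomial, aeval_monomial, iterateFrobenius_def, mul_pow, map_pow,
      ← pow_mul, ← pow_mul, mul_comm n]

theorem map_frob_of_fixed [CharP K 2] {P : K[X]} (k : ℕ) (h : ∀ i, P.coeff i ^ 2 ^ k = P.coeff i) :
    P.map (iterateFrobenius K 2 k) = P := by
  ext i
  rw [coeff_map, iterateFrobenius_def, h]

variable {n : Type*} [Fintype n] [DecidableEq n]

theorem exists_eigvec (A : Matrix n n K) {z : L} (h : aeval z A.charpoly = 0) :
    ∃ v : n → L, v ≠ 0 ∧ A.map (algebraMap K L) *ᵥ v = z • v := by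
  rw [aeval_def, ← eval_map, ← Matrix.charpoly_map, Matrix.eval_charpoly,
    ← Matrix.exists_mulVec_eq_zero_iff] at h
  obtain ⟨v, hv, hv0⟩ := h
  refine ⟨v, hv, ?_⟩
  rw [Matrix.sub_mulVec, sub_eq_zero] at hv0
  rw [← hv0]
  funext i
  simp [Matrix.scalar_apply, Matrix.mulVec_diagonal]

theorem pow_mulVec_smul {B : Matrix n n L} {v : n → L} {z : L} (h : B *ᵥ v = z • v) (r : ℕ) :
    (B ^ r) *ᵥ v = z ^ r • v := by
  induction r with
  | zero => simp
  | succ r ih => rw [pow_succ, ← Matrix.mulVec_mulVec, h, Matrix.mulVec_smul, ih, smul_smul, ← pow_succ']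

theorem root_pow_eq_one {A : Matrix n n K} {r : ℕ} (hA : A ^ r = 1) {z : L}
    (h : aeval z A.charpoly = 0) : z ^ r = 1 := by
  obtain ⟨v, hv, hv0⟩ := exists_eigvec A h
  have h1 := pow_mulVec_smul hv0 r
  rw [← Matrix.map_pow, hA, Matrix.map_one _ (map_zero _) (map_one _), Matrix.one_mulVec] at h1
  by_contra hne
  refine hv (funext fun i => ?_)
  have h2 := congrFun h1 i
  rw [Pi.smul_apply, smul_eq_mul] at h2
  by_contra hi
  exact hne (mul_right_cancel₀ hi (by rw [one_mul]; exact h2.symm))

theorem aeval_mul_intertwine {A B M : Matrix n n K} (h : A * M = M * B) (P : K[X]) :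
    aeval A P * M = M * aeval B P := by
  induction P using Polynomial.induction_on' with
  | add p q hp hq => rw [map_add, map_add, Matrix.add_mul, Matrix.mul_add, hp, hq]
  | monomial k a =>
    have hk : A ^ k * M = M * B ^ k := (show SemiconjBy M B A from h.symm).pow_right k |>.eq.symm
    rw [aeval_monomial, aeval_monomial, mul_assoc, hk, ← mul_assoc, Algebra.commutes, mul_assoc]

theorem not_coprime_of_intertwine {A B M : Matrix n n K} (h : A * M = M * B) (hM : M ≠ 0) :
    ¬ IsCoprime A.charpoly B.charpoly := by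
  rintro ⟨a, b, hab⟩
  apply hM
  have h1 := congrArg (aeval A) hab
  rw [map_one, map_add, map_mul, map_mul, Matrix.aeval_self_charpoly, mul_zero, zero_add] at h1
  calc M = aeval A b * aeval A B.charpoly * M := by rw [h1, one_mul]
    _ = aeval A b * (M * aeval B B.charpoly) := by rw [mul_assoc, aeval_mul_intertwine h]
    _ = 0 := by rw [Matrix.aeval_self_charpoly, mul_zero, mul_zero]

end Cfsg.Agent.H69.Graph
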